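import Groth.Agent.Lib.BCCrit.Degree0
import Groth.Agent.Lib.BCCoh.PullSec
import Groth.Agent.Lib.FCoh7.RestrTower
import Groth.Agent.Lib.Seesaw26.LocalGood
import Groth.Agent.Lib.Euler.Coh
import Groth.Agent.Lib.LocFree8.Basic
import Groth.Agent.Lib.LocProp.Stalk

/-!
# Sections on a fibre come from sections near it
-/

set_option autoImplicit false
set_option linter.style.haveILetI false
set_option backward.isDefEq.respectTransparency false
set_option maxHeartbeats 1000000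

universe u

noncomputable section

open CategoryTheory CategoryTheory.Limits AlgebraicGeometry Opposite TopologicalSpace

namespace GrothLib.FibVA11

open BCCoh (pullRes)

variable {S : Scheme.{u}}

/-- Scalars on the residue field come from functions near the point. -/
theorem exists_appLE_eq (y : S) (a : Γ(Spec (S.residueField y), ⊤)) :
    ∃ (W : S.Opens) (_ : IsAffineOpen W) (_ : y ∈ W) (e : ⊤ ≤ S.fromSpecResidueField y ⁻¹ᵁ W) (r : Γ(S, W)),
      (S.fromSpecResidueField y).appLE W ⊤ e r = a := by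
  let q := S.fromSpecResidueField y
  let T := Spec (S.residueField y)
  haveI : Subsingleton T := inferInstanceAs (Subsingleton (PrimeSpectrum (S.residueField y)))
  let z : T := IsLocalRing.closedPoint _
  obtain ⟨c, hc⟩ := q.stalkMap_surjective z (T.presheaf.germ ⊤ z trivial a)
  obtain ⟨W₀, hzW₀, r₀, rfl⟩ := TopCat.Presheaf.exists_germ_eq S.presheaf c
  obtain ⟨W, hW, hzW, hWW⟩ := exists_isAffineOpen_mem_and_subset hzW₀
  have hy : y ∈ W := by
    have h := Scheme.fromSpecResidueField_apply y z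
    rw [← h]; exact hzW
  have e : (⊤ : T.Opens) ≤ q ⁻¹ᵁ W := fun w _ => by rwa [Subsingleton.elim w z]
  refine ⟨W, hW, hy, e, S.presheaf.map (homOfLE hWW).op r₀, ?_⟩
  have h1 : T.presheaf.germ ⊤ z trivial (q.appLE W ⊤ e (S.presheaf.map (homOfLE hWW).op r₀)) =
      T.presheaf.germ ⊤ z trivial a := by
    rw [Scheme.Hom.appLE, CommRingCat.comp_apply, TopCat.Presheaf.germ_res_apply, ← Scheme.Hom.germ_stalkMap_apply]
    exact (congrArg (q.stalkMap z) (TopCat.Presheaf.germ_res_apply S.presheaf (homOfLE hWW) (q z) hzW r₀)).trans hc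
  obtain ⟨W', hzW', i₁, i₂, he⟩ := TopCat.Presheaf.germ_eq (U := (⊤ : T.Opens)) (V := (⊤ : T.Opens)) T.presheaf z trivial trivial _ _ h1
  have hW' : W' = ⊤ := top_le_iff.1 fun w _ => by rwa [Subsingleton.elim w z]
  subst hW'
  rw [Subsingleton.elim i₁ (𝟙 _), Subsingleton.elim i₂ (𝟙 _)] at he
  simpa using he

/-- Sections of the pullback to the residue field come from sections near the point. -/
theorem exists_pullRes_eq (y : S) (N : S.Modules) [N.IsQuasicoherent]
    (t : Γ((Scheme.Modules.pullback (S.fromSpecResidueField y)).obj N, ⊤)) :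
    ∃ (W : S.Opens) (_ : IsAffineOpen W) (_ : y ∈ W) (e : ⊤ ≤ S.fromSpecResidueField y ⁻¹ᵁ W) (s : Γ(N, W)),
      pullRes (S.fromSpecResidueField y) N W ⊤ e s = t := by
  let q := S.fromSpecResidueField y
  obtain ⟨_, ⟨V, hV, rfl⟩, hyV, -⟩ := S.isBasis_affineOpens.exists_subset_of_mem_open (Set.mem_univ y) isOpen_univ
  have eV : (⊤ : (Spec (S.residueField y)).Opens) ≤ q ⁻¹ᵁ V := fun w _ => by
    show q w ∈ V
    rw [Scheme.fromSpecResidueField_apply]; exact hyV
  letI : Algebra Γ(S, V) Γ(Spec (S.residueField y), ⊤) := (q.appLE V ⊤ eV).hom.toAlgebra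
  letI : Module Γ(S, V) Γ((Scheme.Modules.pullback q).obj N, ⊤) := Module.compHom _ (q.appLE V ⊤ eV).hom
  haveI : IsScalarTower Γ(S, V) Γ(Spec (S.residueField y), ⊤) Γ((Scheme.Modules.pullback q).obj N, ⊤) :=
    IsScalarTower.of_algebraMap_smul fun _ _ => rfl
  obtain ⟨p, hp, hpv⟩ := BCCoh.isBaseChange_pullRes q N hV (isAffineOpen_top _) eV
  induction t using hp.inductionOn with
  | zero => exact ⟨V, hV, hyV, eV, 0, (hpv 0).symm.trans (map_zero p)⟩
  | tmul m => exact ⟨V, hV, hyV, eV, m, (hpv m).symm⟩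
  | smul a t ih =>
    obtain ⟨W, hW, hy, e, s, rfl⟩ := ih
    obtain ⟨W', hW', hy', e', r, rfl⟩ := exists_appLE_eq y a
    obtain ⟨D, hD, hyD, hDle⟩ := exists_isAffineOpen_mem_and_subset (show y ∈ W ⊓ W' from ⟨hy, hy'⟩)
    have eD : (⊤ : (Spec (S.residueField y)).Opens) ≤ q ⁻¹ᵁ D := fun w _ => by
      show q w ∈ D
      rw [Scheme.fromSpecResidueField_apply]; exact hyD
    have h1 : D ≤ W := fun _ hz => (hDle hz).1
    have h2 : D ≤ W' := fun _ hz => (hDle hz).2
    refine ⟨D, hD, hyD, eD, S.presheaf.map (homOfLE h2).op r • N.presheaf.map (homOfLE h1).op s, ?_⟩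
    rw [BCCoh.pullRes_smul]
    refine congrArg₂ (· • ·) ?_ (FCoh7.pullRes_res_left q N eD h1 e s)
    rw [← CommRingCat.comp_apply, Scheme.Hom.map_appLE]
  | add t₁ t₂ ih₁ ih₂ =>
    obtain ⟨W, hW, hy, e, s, rfl⟩ := ih₁
    obtain ⟨W', hW', hy', e', s', rfl⟩ := ih₂
    obtain ⟨D, hD, hyD, hDle⟩ := exists_isAffineOpen_mem_and_subset (show y ∈ W ⊓ W' from ⟨hy, hy'⟩)
    have eD : (⊤ : (Spec (S.residueField y)).Opens) ≤ q ⁻¹ᵁ D := fun w _ => by
      show q w ∈ D
      rw [Scheme.fromSpecResidueField_apply]; exact hyD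
    have h1 : D ≤ W := fun _ hz => (hDle hz).1
    have h2 : D ≤ W' := fun _ hz => (hDle hz).2
    refine ⟨D, hD, hyD, eD, N.presheaf.map (homOfLE h1).op s + N.presheaf.map (homOfLE h2).op s', ?_⟩
    rw [BCCoh.pullRes_add]
    exact congrArg₂ (· + ·) (FCoh7.pullRes_res_left q N eD h1 e s) (FCoh7.pullRes_res_left q N eD h2 e' s')

variable {X : Scheme.{u}}

/-- If the first cohomology of a fibre vanishes, its sections come from sections near it. -/
theorem exists_lift_section (f : X ⟶ S) [IsProper f] [Flat f] [LocallyOfFinitePresentation f] (L : X.Modules)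
    (hL : PicF.IsInvertible L) (y : S)
    (h1 : Subsingleton (Coh.HH (f.fiber y) ((Scheme.Modules.pullback (f.fiberι y)).obj L) 1))
    (t : Γ((Scheme.Modules.pullback (f.fiberι y)).obj L, f.fiberToSpecResidueField y ⁻¹ᵁ ⊤)) :
    ∃ (W : S.Opens) (_ : IsAffineOpen W) (_ : y ∈ W)
      (e : f.fiberToSpecResidueField y ⁻¹ᵁ ⊤ ≤ f.fiberι y ⁻¹ᵁ (f ⁻¹ᵁ W)) (b : Γ(L, f ⁻¹ᵁ W)),
      pullRes (f.fiberι y) L (f ⁻¹ᵁ W) (f.fiberToSpecResidueField y ⁻¹ᵁ ⊤) e b = t := by
  haveI : L.IsQuasicoherent := InvExt.isQuasicoherent_of_isInvertible hL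
  haveI : Coh.IsQCoh L := ‹L.IsQuasicoherent›
  have hFP : CohB1.IsFP L := LocFree8.isFP_of_isFinLocFree L (Euler.isFinLocFree_of_isInvertible hL)
  have hfl : FlatMod.IsFlatOver f L := Seesaw26.isFlatOver_of_isInvertible f hL
  have hepi : Epi (CohBC.bc0 f (S.fromSpecResidueField y) (f.fiberToSpecResidueField y) (f.fiberι y)
      (f.fiber_fac y) L) := by
    refine (BCCrit.goodAll_iff_epi0 hFP hfl y).1 ?_
    have h := (BCCrit.goodAll_of_fiberRank_eq_zero (f := f) (F := L) 1 y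
      ((BCCrit.subsingleton_fiberH_iff hFP hfl 1 y).1 h1)).2
    simpa using h
  haveI : ((Scheme.Modules.pushforward f).obj L).IsQuasicoherent := QCoh.isQuasicoherent_pushforward f L
  obtain ⟨w, hw⟩ := (BCCrit.epi_iff_surjective _ (IsLocalRing.closedPoint _)).1 hepi t
  obtain ⟨W, hW, hy, e, s, rfl⟩ := exists_pullRes_eq y ((Scheme.Modules.pushforward f).obj L) w
  have e' : f.fiberToSpecResidueField y ⁻¹ᵁ ⊤ ≤ f.fiberι y ⁻¹ᵁ (f ⁻¹ᵁ W) := fun z _ => by
    show f (f.fiberι y z) ∈ W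
    rw [show f (f.fiberι y z) = y from (f.range_fiberι y).le ⟨z, rfl⟩]
    exact hy
  refine ⟨W, hW, hy, e', s, ?_⟩
  rw [← hw]
  exact (BCCrit.bc0_pullRes (f.fiber_fac y) L W ⊤ e e' s).symm

end GrothLib.FibVA11
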